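import Cfsg.Agent.H572.LatQ

/-!
# Isometries fixing a hyperplane of an eigenspace modulo a prime (S3849, exceptional groups)

`B` a symmetric positive semidefinite form on an abelian group `L`, `g` an isometry of order a power of the odd prime `s`.

* `cube` : if `B ((g - 1) x) ((g - 1) y)` is a multiple of `μ x ν y + μ y ν x` modulo `s`, then `(g - 1)³ = 0` modulo `s`;
* `cube_fix` : then (`s = 5, 7`) `g` fixes the vectors of norm two;
* `Rk` : `B ((g - 1) x) (P y) = μ x λ y` modulo `s`; `fix_of_rk` : for `P = θ - q`, `θ² = t θ - 1`, `g` fixes the vectors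
  of norm two.
-/

set_option autoImplicit false

namespace Cfsg.Agent.H572.RMLat

open Cfsg.Agent.H572.LatQ

variable {L : Type*} [AddCommGroup L] {B : L → L → ℤ} {s : ℕ}

theorem B_zsmul (h : IsForm B) (n : ℤ) (x y : L) : B (n • x) y = n * B x y := by
  have hz : ∀ n : ℕ, B (n • x) y = n * B x y := by
    intro n
    induction n with
    | zero => rw [zero_smul, h.zero]; simp
    | succ n ih => rw [succ_nsmul, h.add, ih]; push_cast; ring
  obtain ⟨n, rfl | rfl⟩ := n.eq_nat_or_neg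
  · rw [natCast_zsmul, hz]
  · rw [neg_smul, h.neg, natCast_zsmul, hz]; ring

theorem B_zsmul' (h : IsForm B) (n : ℤ) (x y : L) : B x (n • y) = n * B x y := by
  rw [h.comm, B_zsmul h, h.comm]

/-- `g - 1` -/
def hh (g : L →+ L) : L →+ L := g - AddMonoidHom.id L

theorem hh_apply (g : L →+ L) (x : L) : hh g x = g x - x := rfl

theorem iter_hh (g : L →+ L) (hs : s.Prime) (N : ℕ) (hN : ∀ x, g^[s ^ N] x = x) (x : L) :
    ∃ z, (hh g)^[s ^ N] x = (s : ℤ) • z := by
  let G : AddMonoid.End L := g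
  have hpow : ∀ (f : AddMonoid.End L) (n : ℕ) (x : L), (f ^ n) x = f^[n] x := by
    intro f n
    induction n with
    | zero => intro x; rfl
    | succ n ih => intro x; rw [pow_succ, Function.iterate_succ_apply]; exact ih _
  have h1 : ∀ y, ((G + (-1) : AddMonoid.End L)) y = hh g y := by
    intro y
    show G y + (-1 : AddMonoid.End L) y = g y - y
    rw [sub_eq_add_neg]; rfl
  have hc : Commute G (-1 : AddMonoid.End L) := (Commute.one_right G).neg_right
  obtain ⟨r, hr⟩ := hc.exists_add_pow_prime_pow_eq hs N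
  have h2 : (hh g)^[s ^ N] x = ((G + (-1) : AddMonoid.End L) ^ s ^ N) x := by
    rw [hpow]
    congr 1
    funext y
    exact (h1 y).symm
  have h3 : (G ^ s ^ N) x = x := by rw [hpow]; exact hN x
  have h5 : ((s : AddMonoid.End L) * G * (-1) * r) x = (s : ℤ) • ((G * (-1) * r : AddMonoid.End L) x) := by
    rw [mul_assoc, mul_assoc, ← mul_assoc G, natCast_zsmul]
    show (s : AddMonoid.End L) ((G * (-1) * r : AddMonoid.End L) x) = _
    rw [AddMonoid.End.natCast_apply]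
  have h8 : ((G + (-1) : AddMonoid.End L) ^ s ^ N) x =
      (G ^ s ^ N) x + ((-1 : AddMonoid.End L) ^ s ^ N) x + ((s : AddMonoid.End L) * G * (-1) * r) x := by
    rw [hr]; rfl
  rw [h2, h8, h3, h5]
  rcases Nat.even_or_odd (s ^ N) with h6 | h6
  · rcases hs.eq_two_or_odd' with h7 | h7
    · refine ⟨x + (G * (-1) * r : AddMonoid.End L) x, ?_⟩
      rw [h6.neg_one_pow, smul_add, h7]
      show x + x + _ = _
      rw [natCast_zsmul, natCast_zsmul, two_nsmul x]
    · exact absurd h6 (Nat.not_even_iff_odd.2 h7.pow)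
  · refine ⟨(G * (-1) * r : AddMonoid.End L) x, ?_⟩
    rw [h6.neg_one_pow]
    show x + -x + _ = _
    rw [add_neg_cancel, zero_add]

section Cube

variable {g : L →+ L}

/-- `B ((g - 1) x) ((g - 1) y)` modulo `s` -/
def GG (B : L → L → ℤ) (g : L →+ L) (s : ℕ) (x y : L) : ZMod s := ((B (hh g x) (hh g y) : ℤ) : ZMod s)

theorem GG_add (h : IsForm B) (x y z : L) : GG B g s (x + y) z = GG B g s x z + GG B g s y z := by
  unfold GG
  rw [map_add, h.add]; push_cast; ring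

theorem GG_sub (h : IsForm B) (x y z : L) : GG B g s (x - y) z = GG B g s x z - GG B g s y z := by
  unfold GG
  rw [map_sub, h.sub]; push_cast; ring

theorem GG_comm (h : IsForm B) (x y : L) : GG B g s x y = GG B g s y x := by
  unfold GG; rw [h.comm]

theorem hh_comm (x : L) : hh g (g x) = g (hh g x) := by
  rw [hh_apply, hh_apply, map_sub]

theorem GG_iso (hw : Iso B g) (x y : L) : GG B g s (g x) (g y) = GG B g s x y := by
  unfold GG
  rw [hh_comm, hh_comm, hw.iso]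

theorem g_eq (x : L) : g x = hh g x + x := by rw [hh_apply, sub_add_cancel]

/-- one of the two cases of `cube` -/
theorem cube_aux (hs : s.Prime) (hs2 : s ≠ 2) (h : IsForm B) (hw : Iso B g) (μ ν : L →+ ZMod s) {c : ZMod s} (hc : c ≠ 0)
    (hG : ∀ x y, c * GG B g s x y = μ x * ν y + μ y * ν x) {x' : L} (hn : ∃ y, GG B g s (hh g x') y ≠ 0)
    (hn0 : ∀ y, GG B g s (hh g (hh g x')) y = 0) (hν : ν (hh g x') = 0) : False := by
  have : Fact s.Prime := ⟨hs⟩
  have h2 : (2 : ZMod s) ≠ 0 := by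
    intro h3
    have h4 : ((2 : ℕ) : ZMod s) = 0 := by exact_mod_cast h3
    rw [ZMod.natCast_eq_zero_iff] at h4
    exact hs2 ((Nat.prime_dvd_prime_iff_eq hs Nat.prime_two).1 h4)
  obtain ⟨y0, hy0⟩ := hn
  have ha : ∀ u, GG B g s (hh g x') (hh g u) = 0 := by
    intro u
    have h3 : GG B g s (hh g x') u = GG B g s (hh g x') (g u) := by
      rw [← GG_iso hw (hh g x') u, g_eq (g := g) (hh g x'), GG_add h, hn0, zero_add]
    have h4 : hh g u = g u - u := rfl
    rw [h4, GG_comm h, GG_sub h, GG_comm h, GG_comm h u, ← h3, sub_self]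
  have hgn : ∀ y, c * GG B g s (hh g x') y = μ (hh g x') * ν y := by
    intro y
    rw [hG, hν, mul_zero, add_zero]
  have hμ : μ (hh g x') ≠ 0 := by
    intro h3
    have h4 := hgn y0
    rw [h3, zero_mul] at h4
    exact hy0 ((mul_eq_zero.1 h4).resolve_left hc)
  have hνy : ν y0 ≠ 0 := by
    intro h3
    have h4 := hgn y0
    rw [h3, mul_zero] at h4
    exact hy0 ((mul_eq_zero.1 h4).resolve_left hc)
  have hνh : ∀ u, ν (hh g u) = 0 := by
    intro u
    have h4 := hgn (hh g u)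
    rw [ha, mul_zero] at h4
    exact (mul_eq_zero.1 h4.symm).resolve_left hμ
  have hst : ∀ u, μ (hh g u) * ν u = 0 := by
    intro u
    have h3 := hG (g u) (g u)
    rw [GG_iso hw, hG, g_eq (g := g) u, map_add, map_add, hνh, zero_add] at h3
    have h4 : 2 * (μ (hh g u) * ν u) = 0 := by linear_combination -h3
    exact (mul_eq_zero.1 h4).resolve_left h2
  have h3 : ν x' = 0 := (mul_eq_zero.1 (hst x')).resolve_left hμ
  have h4 : μ (hh g y0) = 0 := (mul_eq_zero.1 (hst y0)).resolve_right hνy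
  have h5 := hst (x' + y0)
  rw [map_add, map_add, map_add, h4, h3, add_zero, zero_add] at h5
  exact (mul_ne_zero hμ hνy) h5

/-- **`(g - 1)³ = 0` modulo `s`.** -/
theorem cube (hs : s.Prime) (hs2 : s ≠ 2) (h : IsForm B) (hw : Iso B g) (hsur : Function.Surjective g) (N : ℕ)
    (hN : ∀ x, g^[s ^ N] x = x) (μ ν : L →+ ZMod s) {c : ZMod s} (hc : c ≠ 0)
    (hG : ∀ x y, c * GG B g s x y = μ x * ν y + μ y * ν x) (x y : L) :
    (s : ℤ) ∣ B (hh g (hh g (hh g x))) y := by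
  classical
  have : Fact s.Prime := ⟨hs⟩
  have h2 : (2 : ZMod s) ≠ 0 := by
    intro h3
    have h4 : ((2 : ℕ) : ZMod s) = 0 := by exact_mod_cast h3
    rw [ZMod.natCast_eq_zero_iff] at h4
    exact hs2 ((Nat.prime_dvd_prime_iff_eq hs Nat.prime_two).1 h4)
  have key : ∀ x y, GG B g s (hh g x) y = 0 := by
    by_contra hcon
    push Not at hcon
    obtain ⟨x, y0, hxy⟩ := hcon
    have hex : ∃ i, ∀ y, GG B g s ((hh g)^[i] x) y = 0 := by
      obtain ⟨z, hz⟩ := iter_hh g hs N hN x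
      refine ⟨s ^ N, fun y => ?_⟩
      rw [hz]
      unfold GG
      rw [map_zsmul, B_zsmul h]
      push_cast
      rw [ZMod.natCast_self, zero_mul]
    obtain ⟨i, hi, hmin⟩ : ∃ i, (∀ y, GG B g s ((hh g)^[i] x) y = 0) ∧
        ∀ j, j < i → ¬ ∀ y, GG B g s ((hh g)^[j] x) y = 0 := ⟨Nat.find hex, Nat.find_spec hex, fun j hj => Nat.find_min hex hj⟩
    have hi0 : i ≠ 0 := by
      rintro rfl
      apply hxy
      have h3 : ∀ y, GG B g s x y = 0 := hi
      have h4 : hh g x = g x - x := rfl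
      rw [h4, GG_sub h, h3, sub_zero]
      obtain ⟨z, rfl⟩ := hsur y0
      rw [GG_iso hw, h3]
    have hi1 : i ≠ 1 := by
      rintro rfl
      exact hxy (hi y0)
    obtain ⟨j, rfl⟩ : ∃ j, i = j + 2 := ⟨i - 2, by omega⟩
    have h3 := hmin (j + 1) (by omega)
    push Not at h3
    rw [Function.iterate_succ_apply'] at h3
    have h4 : ∀ y, GG B g s (hh g (hh g ((hh g)^[j] x))) y = 0 := by
      intro y
      have := hi y
      rw [Function.iterate_succ_apply', Function.iterate_succ_apply'] at this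
      exact this
    set x' := (hh g)^[j] x with hx'
    have h5 : GG B g s (hh g x') (hh g x') = 0 := by
      have h6 : GG B g s (hh g x') x' = GG B g s (hh g x') (g x') := by
        rw [← GG_iso hw (hh g x') x', g_eq (g := g) (hh g x'), GG_add h, h4, zero_add]
      have h7 : GG B g s (hh g x') (g x' - x') = 0 := by
        rw [GG_comm h, GG_sub h, GG_comm h, GG_comm h x', ← h6, sub_self]
      exact h7
    have h6 := hG (hh g x') (hh g x')
    rw [h5, mul_zero] at h6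
    have h7 : μ (hh g x') * ν (hh g x') = 0 := by
      have h8 : 2 * (μ (hh g x') * ν (hh g x')) = 0 := by linear_combination -h6
      exact (mul_eq_zero.1 h8).resolve_left h2
    rcases mul_eq_zero.1 h7 with h8 | h8
    · exact cube_aux hs hs2 h hw ν μ hc (fun x y => by rw [hG]; ring) h3 h4 h8
    · exact cube_aux hs hs2 h hw μ ν hc hG h3 h4 h8
  obtain ⟨z, rfl⟩ := hsur y
  have h3 : ((B (hh g (hh g x)) (hh g z) : ℤ) : ZMod s) = 0 := key x z
  have h4 : B (hh g (hh g (hh g x))) (g z) = - B (hh g (hh g x)) (hh g z) := by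
    rw [hh_apply g (hh g (hh g x)), h.sub, hw.iso, hh_apply g z, h.sub']
    ring
  rw [h4, dvd_neg, ← ZMod.intCast_zmod_eq_zero_iff_dvd]
  exact h3

/-- **`g` fixes the vectors of norm two**, `s = 5, 7`. -/
theorem cube_fix (h : IsForm B) (hw : Iso B g) (hs57 : s = 5 ∨ s = 7)
    (hnd : ∀ v, (∀ y, (s : ℤ) ∣ B v y) → ∃ z, v = (s : ℤ) • z)
    (hc : ∀ x y, (s : ℤ) ∣ B (hh g (hh g (hh g x))) y) {e : L} (he : B e e = 2) : Rad B (g e - e) := by
  have hge : B (g e) (g e) = 2 := by rw [hw.iso, he]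
  have hg2 : B (g (g e)) (g (g e)) = 2 := by rw [hw.iso, hge]
  have hg3 : B (g (g (g e))) (g (g (g e))) = 2 := by rw [hw.iso, hg2]
  apply h.rad_of_two hge he
  have e1 : hh g (hh g (hh g e)) = g (g (g e)) - g (g e) - (g (g e) - g e) - (g (g e) - g e - (g e - e)) := by
    simp only [hh_apply, map_sub]
  obtain ⟨z, hz⟩ := hnd _ (hc e)
  have hn : B (hh g (hh g (hh g e))) (hh g (hh g (hh g e))) = (s : ℤ) * ((s : ℤ) * B z z) := by
    rw [hz, B_zsmul h, B_zsmul' h]
  have ha := hc e e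
  have hb := hc e (g e)
  rw [e1] at hn ha hb
  simp only [h.sub, h.sub', hw.iso, he, h.comm e (g e), h.comm e (g (g e)), h.comm e (g (g (g e)))] at hn ha hb
  have b1 := h.le_two hge he
  have b2 := h.le_two hg2 he
  have b3 := h.le_two hg3 he
  have c1 := h.neg_two_le hge he
  have c2 := h.neg_two_le hg2 he
  have c3 := h.neg_two_le hg3 he
  have hm : B (g e) e = -2 → B (g (g e)) e = 2 := by
    intro hm
    have h1 : Rad B (g e + e) := by
      apply h.rad_of_norm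
      rw [h.add, h.add', h.add', h.comm e (g e), hge, he, hm]; norm_num
    have h2 : B (g e + e) (g (g e)) = 0 := h1 _
    rw [h.add, hw.iso, h.comm e (g e), hm, h.comm e (g (g e))] at h2
    omega
  generalize B (g e) e = m1 at *
  generalize B (g (g e)) e = m2 at *
  generalize B (g (g (g e))) e = m3 at *
  generalize B z z = n at *
  clear hz e1 hge hg2 hg3 he hc hnd
  rcases hs57 with rfl | rfl
  · obtain ⟨a, ha⟩ := ha
    obtain ⟨b, hb⟩ := hb
    push_cast at ha hb hn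
    have hn' : 40 - 30 * m1 + 12 * m2 - 2 * m3 = 25 * n := by linarith
    have ha' : m3 - 3 * m2 + 3 * m1 - 2 = 5 * a := by linarith
    have hb' : m2 - 4 * m1 + 6 = 5 * b := by linarith
    clear hn ha hb
    interval_cases m1 <;> interval_cases m2 <;> interval_cases m3 <;> omega
  · obtain ⟨a, ha⟩ := ha
    obtain ⟨b, hb⟩ := hb
    push_cast at ha hb hn
    have hn' : 40 - 30 * m1 + 12 * m2 - 2 * m3 = 49 * n := by linarith
    have ha' : m3 - 3 * m2 + 3 * m1 - 2 = 7 * a := by linarith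
    have hb' : m2 - 4 * m1 + 6 = 7 * b := by linarith
    clear hn ha hb
    interval_cases m1 <;> interval_cases m2 <;> interval_cases m3 <;> omega

end Cube

section Rank

variable {g θ : L →+ L} {t q : ℤ}

/-- `θ` is an isometry with `θ² = t θ - 1` -/
structure Cx (B : L → L → ℤ) (θ : L →+ L) (t : ℤ) : Prop where
  iso : Iso B θ
  sq : ∀ x, θ (θ x) = t • θ x - x

/-- `θ - q` -/
def PP (θ : L →+ L) (q : ℤ) : L →+ L := θ - q • AddMonoidHom.id L

theorem PP_apply (θ : L →+ L) (q : ℤ) (x : L) : PP θ q x = θ x - q • x := rfl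

theorem adj (h : IsForm B) (hθ : Cx B θ t) (x y : L) : B x (PP θ q y) + B (PP θ q x) y = (t - 2 * q) * B x y := by
  have h1 : B (θ x) y = t * B x y - B x (θ y) := by
    have h2 := hθ.iso.iso (θ x) y
    rw [hθ.sq, h.sub, B_zsmul h, hθ.iso.iso] at h2
    linarith
  rw [PP_apply, PP_apply, h.sub', h.sub, B_zsmul h, B_zsmul' h, h1]
  ring

/-- `B ((g - 1) x) (P y)` has rank at most one modulo `s` -/
def Rk (B : L → L → ℤ) (s : ℕ) (g P : L →+ L) : Prop :=
  ∃ μ lam : L →+ ZMod s, ∀ x y, ((B (hh g x) (P y) : ℤ) : ZMod s) = μ x * lam y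

/-- **isometries of order a power of `s` fixing a hyperplane of an eigenspace** -/
theorem fix_of_rk (hs57 : s = 5 ∨ s = 7) (h : IsForm B) (hw : Iso B g) (hsur : Function.Surjective g) (N : ℕ)
    (hN : ∀ x, g^[s ^ N] x = x) (hθ : Cx B θ t) (htq : ¬ (s : ℤ) ∣ t - 2 * q)
    (hnd : ∀ v, (∀ y, (s : ℤ) ∣ B v y) → ∃ z, v = (s : ℤ) • z) (hr : Rk B s g (PP θ q)) {e : L} (he : B e e = 2) :
    Rad B (g e - e) := by
  have hs : s.Prime := by rcases hs57 with rfl | rfl <;> norm_num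
  obtain ⟨μ, lam, hr⟩ := hr
  have hc : ((t - 2 * q : ℤ) : ZMod s) ≠ 0 := by
    rw [Ne, ZMod.intCast_zmod_eq_zero_iff_dvd]; exact htq
  refine cube_fix h hw hs57 hnd ?_ he
  refine cube hs (by rcases hs57 with rfl | rfl <;> norm_num) h hw hsur N hN μ (lam.comp (hh g)) hc fun x y => ?_
  unfold GG
  rw [← Int.cast_mul, ← adj h hθ (q := q)]
  push_cast
  rw [hr x (hh g y), h.comm (PP θ q (hh g x)), hr y (hh g x)]
  rfl

end Rank

/-- equal functionals: `s ≥ 5` -/
theorem eq_of_cast (h : IsForm B) (hs5 : 5 ≤ s) {x y : L} (hx : B x x = 2) (hy : B y y = 2)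
    (hxy : ((B x y : ℤ) : ZMod s) = 2) : Rad B (x - y) := by
  apply h.rad_of_two hx hy
  have h1 : ((B x y - 2 : ℤ) : ZMod s) = 0 := by push_cast; rw [hxy, sub_self]
  rw [ZMod.intCast_zmod_eq_zero_iff_dvd] at h1
  have b1 := h.le_two hx hy
  have c1 := h.neg_two_le hx hy
  obtain ⟨c, hc⟩ := h1
  have hs5' : (5 : ℤ) ≤ s := by exact_mod_cast hs5
  have : c = 0 := by
    by_contra hc0
    rcases lt_or_gt_of_ne hc0 with h4 | h4 <;> nlinarith
  rw [this, mul_zero] at hc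
  omega

/-- a functional vanishing on the kernel of `lam` is a multiple of `lam` -/
theorem factor (hs : s.Prime) (f lam : L →+ ZMod s) (h : ∀ y, lam y = 0 → f y = 0) : ∃ c, ∀ y, f y = c * lam y := by
  have : Fact s.Prime := ⟨hs⟩
  by_cases h0 : ∀ y, lam y = 0
  · exact ⟨0, fun y => by rw [h y (h0 y), zero_mul]⟩
  · push Not at h0
    obtain ⟨y0, hy0⟩ := h0
    refine ⟨f y0 * (lam y0)⁻¹, fun y => ?_⟩
    have h1 : lam (y - ((lam y * (lam y0)⁻¹).val : ℤ) • y0) = 0 := by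
      rw [map_sub, map_zsmul, zsmul_eq_mul]
      push_cast
      rw [ZMod.natCast_val, ZMod.cast_id', id, inv_mul_cancel_right₀ hy0, sub_self]
    have h2 := h _ h1
    rw [map_sub, map_zsmul, zsmul_eq_mul] at h2
    push_cast at h2
    rw [ZMod.natCast_val, ZMod.cast_id', id, sub_eq_zero] at h2
    rw [h2]; ring

/-- the pairing with `P y` modulo `s` -/
def prn (h : IsForm B) (s : ℕ) (P : L →+ L) (v : L) : L →+ ZMod s where
  toFun y := ((B v (P y) : ℤ) : ZMod s)
  map_zero' := by rw [map_zero, h.comm, h.zero]; simp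
  map_add' x y := by rw [map_add, h.add']; push_cast; rfl

/-- `v` is orthogonal to `P (ker lam)` -/
def Vn (B : L → L → ℤ) (s : ℕ) (P : L →+ L) (lam : L →+ ZMod s) (v : L) : Prop :=
  ∀ y, lam y = 0 → (s : ℤ) ∣ B v (P y)

theorem Vn.exists_c (h : IsForm B) (hs : s.Prime) {P : L →+ L} {lam : L →+ ZMod s} {v : L} (hv : Vn B s P lam v) :
    ∃ c : ZMod s, ∀ y, ((B v (P y) : ℤ) : ZMod s) = c * lam y := by
  obtain ⟨c, hc⟩ := factor hs (prn h s P v) lam fun y hy => by
    show ((B v (P y) : ℤ) : ZMod s) = 0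
    rw [ZMod.intCast_zmod_eq_zero_iff_dvd]
    exact hv y hy
  exact ⟨c, hc⟩

theorem Vn.add (h : IsForm B) {P : L →+ L} {lam : L →+ ZMod s} {v w : L} (hv : Vn B s P lam v) (hw : Vn B s P lam w) :
    Vn B s P lam (v + w) := fun y hy => by
  rw [h.add]; exact dvd_add (hv y hy) (hw y hy)

theorem Vn.neg (h : IsForm B) {P : L →+ L} {lam : L →+ ZMod s} {v : L} (hv : Vn B s P lam v) :
    Vn B s P lam (-v) := fun y hy => by
  rw [h.neg, dvd_neg]; exact hv y hy

/-- `Rk` from the condition on the kernel of `lam` -/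
theorem rk_of_vn (h : IsForm B) (hs : s.Prime) {g P : L →+ L} {lam : L →+ ZMod s} (hg : ∀ x, Vn B s P lam (hh g x)) :
    Rk B s g P := by
  have : Fact s.Prime := ⟨hs⟩
  by_cases h0 : ∀ y, lam y = 0
  · refine ⟨0, lam, fun x y => ?_⟩
    rw [AddMonoidHom.zero_apply, zero_mul, ZMod.intCast_zmod_eq_zero_iff_dvd]
    exact hg x y (h0 y)
  · push Not at h0
    obtain ⟨y0, hy0⟩ := h0
    let μ : L →+ ZMod s :=
      { toFun := fun x => ((B (hh g x) (P y0) : ℤ) : ZMod s) * (lam y0)⁻¹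
        map_zero' := by rw [map_zero, h.zero]; simp
        map_add' := fun x y => by rw [map_add, h.add]; push_cast; ring }
    refine ⟨μ, lam, fun x y => ?_⟩
    obtain ⟨c, hc⟩ := (hg x).exists_c h hs
    show _ = ((B (hh g x) (P y0) : ℤ) : ZMod s) * (lam y0)⁻¹ * lam y
    rw [hc, hc, mul_inv_cancel_right₀ hy0]

section Orbit

theorem pig5 : ∀ a b c d : ZMod 5, a ≠ 0 → b ≠ 0 → c ≠ 0 → d ≠ 0 → (a = b ∨ a = -b) ∨ (a = c ∨ a = -c) ∨ (a = d ∨ a = -d) ∨
    (b = c ∨ b = -c) ∨ (b = d ∨ b = -d) ∨ (c = d ∨ c = -d) := by decide +kernel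

theorem pig7 : ∀ a b c d : ZMod 7, a ≠ 0 → b ≠ 0 → c ≠ 0 → d ≠ 0 → (a = b ∨ a = -b) ∨ (a = c ∨ a = -c) ∨ (a = d ∨ a = -d) ∨
    (b = c ∨ b = -c) ∨ (b = d ∨ b = -d) ∨ (c = d ∨ c = -d) := by decide +kernel

theorem pig (hs : s = 5 ∨ s = 7) (a b c d : ZMod s) (ha : a ≠ 0) (hb : b ≠ 0) (hc : c ≠ 0) (hd : d ≠ 0) :
    (a = b ∨ a = -b) ∨ (a = c ∨ a = -c) ∨ (a = d ∨ a = -d) ∨
    (b = c ∨ b = -c) ∨ (b = d ∨ b = -d) ∨ (c = d ∨ c = -d) := by
  rcases hs with rfl | rfl
  · exact pig5 a b c d ha hb hc hd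
  · exact pig7 a b c d ha hb hc hd

/-- **few functionals: `w` fixes the vectors** -/
theorem fix_of_orbit (hs : s = 5 ∨ s = 7) {l : ℕ} (hl : l = 5 ∨ l = 7) {w : L →+ L} (hinj : Function.Injective w)
    (hw : ∀ x, w^[l] x = x) {Q : L → ZMod s → Prop} (hQ0 : ∀ a c, Q a c → c ≠ 0)
    (hQ1 : ∀ a b c, Q a c → Q b c → a = b) (hQn : ∀ a c, Q a c → Q (-a) (-c)) (hQw : ∀ a c, Q a c → ∃ c', Q (w a) c')
    {a : L} {c : ZMod s} (ha : Q a c) : w a = a := by
  have key : ∀ m : ℕ, 1 ≤ m → m ≤ 3 → (w^[m] a = a ∨ w^[m] a = -a) → w a = a := by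
    intro m hm1 hm3 h
    have h2 : w^[2 * m] a = a := by
      rw [two_mul, Function.iterate_add_apply]
      rcases h with h | h
      · rw [h, h]
      · rw [h]
        have h3 : ∀ n : ℕ, w^[n] (-a) = -w^[n] a := by
          intro n
          induction n with
          | zero => rfl
          | succ n ih => rw [Function.iterate_succ_apply', Function.iterate_succ_apply', ih, map_neg]
        rw [h3, h, neg_neg]
    have h3 : Function.IsPeriodicPt w (Nat.gcd (2 * m) l) a :=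
      Function.IsPeriodicPt.gcd (show Function.IsPeriodicPt w (2 * m) a from h2)
        (show Function.IsPeriodicPt w l a from hw a)
    have h4 : Nat.gcd (2 * m) l = 1 := by
      rcases hl with rfl | rfl <;> interval_cases m <;> rfl
    rw [h4] at h3
    exact h3
  obtain ⟨c1, h1⟩ := hQw _ _ ha
  obtain ⟨c2, h2⟩ := hQw _ _ h1
  obtain ⟨c3, h3⟩ := hQw _ _ h2
  have hpm : ∀ x y : L, ∀ c d : ZMod s, Q x c → Q y d → (c = d ∨ c = -d) → (x = y ∨ x = -y) := by
    rintro x y c d hx hy (rfl | rfl)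
    · exact Or.inl (hQ1 _ _ _ hx hy)
    · exact Or.inr (hQ1 _ _ _ hx (hQn _ _ hy))
  rcases pig hs c c1 c2 c3 (hQ0 _ _ ha) (hQ0 _ _ h1) (hQ0 _ _ h2) (hQ0 _ _ h3) with h | h | h | h | h | h
  · refine key 1 le_rfl (by norm_num) ?_
    rcases hpm _ _ _ _ ha h1 h with h4 | h4
    · exact Or.inl h4.symm
    · exact Or.inr (neg_eq_iff_eq_neg.1 h4.symm)
  · refine key 2 (by norm_num) (by norm_num) ?_
    rcases hpm _ _ _ _ ha h2 h with h4 | h4
    · exact Or.inl h4.symm
    · exact Or.inr (neg_eq_iff_eq_neg.1 h4.symm)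
  · refine key 3 (by norm_num) (by norm_num) ?_
    rcases hpm _ _ _ _ ha h3 h with h4 | h4
    · exact Or.inl h4.symm
    · exact Or.inr (neg_eq_iff_eq_neg.1 h4.symm)
  · refine key 1 le_rfl (by norm_num) ?_
    rcases hpm _ _ _ _ h1 h2 h with h4 | h4
    · exact Or.inl (hinj h4).symm
    · exact Or.inr (neg_eq_iff_eq_neg.1 (hinj (by rw [map_neg]; exact h4)).symm)
  · refine key 2 (by norm_num) (by norm_num) ?_
    rcases hpm _ _ _ _ h1 h3 h with h4 | h4
    · exact Or.inl (hinj h4).symm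
    · exact Or.inr (neg_eq_iff_eq_neg.1 (hinj (by rw [map_neg]; exact h4)).symm)
  · refine key 1 le_rfl (by norm_num) ?_
    rcases hpm _ _ _ _ h2 h3 h with h4 | h4
    · exact Or.inl (hinj (hinj h4)).symm
    · exact Or.inr (neg_eq_iff_eq_neg.1 (hinj (hinj (by rw [map_neg, map_neg]; exact h4))).symm)

end Orbit

section Types

instance fact7 : Fact (Nat.Prime 7) := ⟨by norm_num⟩

variable {θ : L →+ L} {t q : ℤ} {lam : L →+ ZMod s}

/-- the value on the vector itself, `θ² = t θ - 1` -/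
theorem Cx.self (h : IsForm B) (hs : s.Prime) (hs2 : s ≠ 2) (hθ : Cx B θ t) {a : L} (ha : B a a = 2) {c : ZMod s}
    (hc : ∀ y, ((B a (PP θ q y) : ℤ) : ZMod s) = c * lam y) : c * lam a = ((t - 2 * q : ℤ) : ZMod s) := by
  have : Fact s.Prime := ⟨hs⟩
  have h2 : (2 : ZMod s) ≠ 0 := by
    intro h3
    have h4 : ((2 : ℕ) : ZMod s) = 0 := by exact_mod_cast h3
    rw [ZMod.natCast_eq_zero_iff] at h4
    exact hs2 ((Nat.prime_dvd_prime_iff_eq hs Nat.prime_two).1 h4)
  have h1 := congrArg (Int.cast : ℤ → ZMod s) (adj (q := q) h hθ a a)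
  rw [ha, h.comm (PP θ q a)] at h1
  push_cast at h1
  rw [hc] at h1
  apply mul_left_cancel₀ h2
  push_cast
  linear_combination h1

theorem Cx.pair (h : IsForm B) (hs : s.Prime) (hs2 : s ≠ 2) (hθ : Cx B θ t) (htq : ¬ (s : ℤ) ∣ t - 2 * q) {a b : L}
    (ha : B a a = 2) (hb : B b b = 2) {c : ZMod s}
    (hca : ∀ y, ((B a (PP θ q y) : ℤ) : ZMod s) = c * lam y) (hcb : ∀ y, ((B b (PP θ q y) : ℤ) : ZMod s) = c * lam y) :
    ((B a b : ℤ) : ZMod s) = 2 := by
  have : Fact s.Prime := ⟨hs⟩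
  have hd : ((t - 2 * q : ℤ) : ZMod s) ≠ 0 := by
    rw [Ne, ZMod.intCast_zmod_eq_zero_iff_dvd]; exact htq
  have h1 := congrArg (Int.cast : ℤ → ZMod s) (adj (q := q) h hθ a b)
  rw [h.comm (PP θ q a)] at h1
  rw [Int.cast_add, Int.cast_mul, hca, hcb, Cx.self h hs hs2 hθ ha hca, Cx.self h hs hs2 hθ hb hcb] at h1
  apply mul_left_cancel₀ hd
  linear_combination -h1

/-- `θ³ = 1` with an integral functional `κ` describing `1 + θ + θ²` -/
structure Cy (B : L → L → ℤ) (θ : L →+ L) (κ : L → ℤ) : Prop where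
  iso : Iso B θ
  cube : ∀ x, θ (θ (θ x)) = x
  nrm : ∀ x y, B x (y + θ y + θ (θ y)) = 2 * (κ x * κ y)

/-- `(θ - q) (θ - 1)` -/
def PY (θ : L →+ L) (q : ℤ) : L →+ L := (PP θ q).comp (PP θ 1)

theorem PY_apply (θ : L →+ L) (q : ℤ) (x : L) : PY θ q x = θ (θ x) - (q + 1) • θ x + q • x := by
  show PP θ q (PP θ 1 x) = _
  rw [PP_apply, PP_apply, map_sub, one_smul, smul_sub, add_smul, one_smul]
  abel

theorem adjY (h : IsForm B) {κ : L → ℤ} (hθ : Cy B θ κ) (x y : L) :
    B x (PY θ q y) + B (PY θ q x) y = q * (3 * B x y - 2 * (κ x * κ y)) := by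
  have h1 : B (θ x) y = B x (θ (θ y)) := by
    rw [← hθ.iso.iso x, hθ.cube]
  have h2 : B (θ (θ x)) y = B x (θ y) := by
    rw [← hθ.iso.iso x (θ y), ← hθ.iso.iso (θ x), hθ.cube]
  have h3 := hθ.nrm x y
  rw [h.add', h.add'] at h3
  rw [PY_apply, PY_apply, h.add', h.sub', h.add, h.sub, B_zsmul h, B_zsmul h, B_zsmul' h, B_zsmul' h, h1, h2]
  linear_combination (-q) * h3

theorem Cy.self (h : IsForm B) {κ : L → ℤ} (hθ : Cy B θ κ) {a : L} (ha : B a a = 2) {c : ZMod 7}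
    {lam : L →+ ZMod 7} (hc : ∀ y, ((B a (PY θ q y) : ℤ) : ZMod 7) = c * lam y) :
    c * lam a = (q : ZMod 7) * (3 - (κ a : ZMod 7) ^ 2) := by
  have h1 := congrArg (Int.cast : ℤ → ZMod 7) (adjY (q := q) h hθ a a)
  rw [ha, h.comm (PY θ q a)] at h1
  push_cast at h1
  rw [hc] at h1
  have h2 : (2 : ZMod 7) ≠ 0 := by decide
  apply mul_left_cancel₀ h2
  linear_combination h1

theorem Cy.pair (h : IsForm B) {κ : L → ℤ} (hθ : Cy B θ κ) (hq : ¬ (7 : ℤ) ∣ q) {a b : L} (ha : B a a = 2)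
    (hb : B b b = 2) (hκa : κ a = 0 ∨ κ a = 1 ∨ κ a = -1) (hκb : κ b = 0 ∨ κ b = 1 ∨ κ b = -1) {c : ZMod 7}
    {lam : L →+ ZMod 7} (hca : ∀ y, ((B a (PY θ q y) : ℤ) : ZMod 7) = c * lam y)
    (hcb : ∀ y, ((B b (PY θ q y) : ℤ) : ZMod 7) = c * lam y) : B a b = 2 := by
  have hq0 : (q : ZMod 7) ≠ 0 := by
    rw [Ne, ZMod.intCast_zmod_eq_zero_iff_dvd]; exact_mod_cast hq
  have h1 := congrArg (Int.cast : ℤ → ZMod 7) (adjY (q := q) h hθ a b)
  rw [h.comm (PY θ q a)] at h1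
  rw [Int.cast_add, hca, hcb, Cy.self h hθ ha hca, Cy.self h hθ hb hcb] at h1
  push_cast at h1
  have h2 : (3 - (κ b : ZMod 7) ^ 2) + (3 - (κ a : ZMod 7) ^ 2) =
      3 * ((B a b : ℤ) : ZMod 7) - 2 * ((κ a : ZMod 7) * (κ b : ZMod 7)) := by
    apply mul_left_cancel₀ hq0
    linear_combination h1
  have h3 : ((6 - κ a ^ 2 - κ b ^ 2 - 3 * B a b + 2 * (κ a * κ b) : ℤ) : ZMod 7) = 0 := by
    push_cast
    linear_combination h2
  rw [ZMod.intCast_zmod_eq_zero_iff_dvd] at h3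
  have b1 := h.le_two ha hb
  have c1 := h.neg_two_le ha hb
  generalize B a b = m at *
  rcases hκa with e | e | e <;> rcases hκb with e' | e' | e' <;> rw [e, e'] at h3 <;> norm_num at h3 <;> omega

theorem Cy.ne_zero (h : IsForm B) {κ : L → ℤ} (hθ : Cy B θ κ) (hq : ¬ (7 : ℤ) ∣ q) {a : L} (ha : B a a = 2)
    (hκa : κ a = 0 ∨ κ a = 1 ∨ κ a = -1) {c : ZMod 7}
    {lam : L →+ ZMod 7} (hca : ∀ y, ((B a (PY θ q y) : ℤ) : ZMod 7) = c * lam y) : c ≠ 0 := by
  rintro rfl
  have h1 := Cy.self h hθ ha hca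
  rw [zero_mul] at h1
  have hq0 : (q : ZMod 7) ≠ 0 := by
    rw [Ne, ZMod.intCast_zmod_eq_zero_iff_dvd]; exact_mod_cast hq
  have h2 := (mul_eq_zero.1 h1.symm).resolve_left hq0
  rcases hκa with e | e | e <;> rw [e] at h2 <;> revert h2 <;> decide

end Types

end Cfsg.Agent.H572.RMLat
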