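import Cfsg.Agent.H795.SetTor
import Cfsg.Agent.H572.RM.Lat

/-!
# Elements of prime order of the Weyl group fixing a set of roots (S3849)

* `eq_one_of_tors` : `Tors cs h l`, `w ^ l ^ j = 1`, `l ^ 2 ∤ |W|`, and `w` fixes every root of the form `w x - x`:
  then `w = 1`.
-/

set_option autoImplicit false
set_option linter.unusedSectionVars false

namespace Cfsg.Agent.H572.RMTor

open CoxeterSystem Cfsg.Agent.ChevalleyStructure.CoxeterGeom Cfsg.Agent.Tits.Roots Cfsg.Agent.Tits.Core
  Cfsg.Agent.Tits.RootComb Cfsg.Agent.Tits.Exchange Cfsg.Agent.H795.SetTor Cfsg.Agent.Nodes.Reps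
  Cfsg.Agent.Nodes.BNOf Cfsg.Agent.Nodes.SubComb

variable {I W : Type*} [Fintype I] [DecidableEq I] [Group W] {M : CoxeterMatrix I}
  {cs : CoxeterSystem M W} {A : I → I → ℤ} {h : IsCartan M A}

theorem pow_eq_one_of_sq [Finite W] {l : ℕ} (hl : l.Prime) (hW : ¬ l ^ 2 ∣ Nat.card W) {w : W}
    (hw : ∃ j, w ^ l ^ j = 1) : w ^ l = 1 := by
  obtain ⟨j, hj⟩ := hw
  obtain ⟨i, -, hi'⟩ := (Nat.dvd_prime_pow hl).1 (orderOf_dvd_of_pow_eq_one hj)
  have h1 : i < 2 := by
    by_contra hcon
    push Not at hcon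
    exact hW ((pow_dvd_pow l hcon).trans (hi' ▸ orderOf_dvd_natCard w))
  rw [← orderOf_dvd_iff_pow_eq_one, hi']
  interval_cases i
  · rw [pow_zero]; exact one_dvd _
  · rw [pow_one]

/-- **The criterion.** -/
theorem eq_one_of_tors {l : ℕ} (hl : l.Prime) (hT : Tors cs h l) {w : W} (hw : w ^ l = 1)
    (hfix : ∀ x a, a = rep cs h w x - x → IsRoot cs h a → rep cs h w a = a) : w = 1 := by
  have h1 := hT w
  by_contra hne
  have ho : orderOf w = l := by
    rcases (Nat.dvd_prime hl).1 (orderOf_dvd_of_pow_eq_one hw) with h2 | h2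
    · exact absurd (orderOf_eq_one_iff.1 h2) hne
    · exact h2
  have h2 := h1 ho
  have h3 : {v : W | ∃ (u : W) (i : I) (x : I → ℤ), v = rfl' cs u i ∧ rep cs h w x - x = rep cs h u (sr i)} = ∅ := by
    rw [Set.eq_empty_iff_forall_notMem]
    rintro v ⟨u, i, x, -, hx⟩
    have hr : IsRoot cs h (rep cs h u (sr i)) := (isRoot_sr cs h i).act u
    have h4 := hfix x _ hx.symm hr
    set a := rep cs h u (sr i) with ha
    have h5 : ∀ n : ℕ, rep cs h (w ^ n) x = x + n • a := by
      intro n
      induction n with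
      | zero => rw [pow_zero, map_one, Module.End.one_apply, zero_smul, add_zero]
      | succ n ih =>
        rw [pow_succ', rep_mul_apply, ih, map_add, map_nsmul, h4, succ_nsmul]
        have h6 : rep cs h w x = x + a := by rw [← hx]; abel
        rw [h6]; abel
    have h6 := h5 l
    rw [hw, map_one, Module.End.one_apply, left_eq_add] at h6
    have h7 : a = 0 := by
      have h8 : ∀ j, (l : ℤ) * a j = 0 := fun j => by
        have := congrFun h6 j
        rwa [Pi.smul_apply, nsmul_eq_mul] at this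
      funext j
      have h9 := h8 j
      have h10 : (l : ℤ) ≠ 0 := by exact_mod_cast hl.ne_zero
      exact (mul_eq_zero.1 h9).resolve_left h10
    exact hr.ne_zero h7
  rw [h3, Subgroup.closure_empty, Subgroup.mem_bot] at h2
  exact hne h2

end Cfsg.Agent.H572.RMTor
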